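import Groth.Prelude.Def_CohSite
import Groth.Agent.CohqA.SheafH
import Groth.Agent.CohtopA.DimShift

/-!
# Dimension shifting for the cohomology groups `CohSite.HU`

For a short exact sequence `0 ⟶ F ⟶ I ⟶ Q ⟶ 0` of abelian sheaves with `I` injective (or just acyclic over `X`):
* `subsingleton_HU_zero_iff` : `H^0(X, F) = 0 ↔ F(X) = 0`
* `subsingleton_HU_one_iff` : `H^1(X, F) = 0 ↔ I(X) ⟶ Q(X)` is surjective
* `subsingleton_HU_succ_iff` : `H^(q+2)(X, F) = 0 ↔ H^(q+1)(X, Q) = 0`.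
-/

set_option autoImplicit false
universe u

open CategoryTheory CategoryTheory.Limits Opposite Abelian

namespace Groth.Agent.Topos.H576.ExtShift

variable {C : Type u} [SmallCategory C] {J : GrothendieckTopology C}

/-- `CohSite.HU` as the `Ext` group out of the free sheaf. -/
noncomputable def huEquiv (F : Sheaf J AddCommGrpCat.{u}) (n : ℕ) (X : C) :
    CohSite.HU F n X ≃+ CohqA.SheafH.HU F n X :=
  AddEquiv.refl _

theorem subsingleton_HU_iff (F : Sheaf J AddCommGrpCat.{u}) (n : ℕ) (X : C) :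
    Subsingleton (CohSite.HU F n X) ↔ ∀ x : CohqA.SheafH.HU F n X, x = 0 :=
  ⟨fun h x => (huEquiv F n X).symm.injective (Subsingleton.elim _ _), fun h =>
    ⟨fun a b => (huEquiv F n X).injective ((h _).trans (h _).symm)⟩⟩

/-- `H^0(X, F) = F(X)`. -/
noncomputable def h0 (F : Sheaf J AddCommGrpCat.{u}) (X : C) : CohSite.HU F 0 X ≃+ F.obj.obj (op X) :=
  (huEquiv F 0 X).trans (CohqA.SheafH.H0 F X)

theorem subsingleton_HU_zero_iff (F : Sheaf J AddCommGrpCat.{u}) (X : C) :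
    Subsingleton (CohSite.HU F 0 X) ↔ Subsingleton (F.obj.obj (op X)) :=
  (h0 F X).toEquiv.subsingleton_congr

theorem subsingleton_HU_of_injective (I : Sheaf J AddCommGrpCat.{u}) [Injective I] (n : ℕ) (X : C) :
    Subsingleton (CohSite.HU I (n + 1) X) :=
  (subsingleton_HU_iff I (n + 1) X).2 fun x => Ext.eq_zero_of_injective x

/-- `H^1(X, F) = 0` iff sections of `Q` over `X` lift to `I`, for `0 ⟶ F ⟶ I ⟶ Q ⟶ 0` with `H^1(X, I) = 0`. -/
theorem subsingleton_HU_one_iff' {S : ShortComplex (Sheaf J AddCommGrpCat.{u})} (hS : S.ShortExact) (X : C)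
    (h2 : Subsingleton (CohSite.HU S.X₂ 1 X)) :
    Subsingleton (CohSite.HU S.X₁ 1 X) ↔ Function.Surjective (S.g.hom.app (op X)) := by
  constructor
  · intro h s
    have : Subsingleton (CohqA.SheafH.HU S.X₁ 1 X) := h
    exact CohqA.SheafH.exists_lift_of_H1_eq_zero hS X s
  · intro h
    rw [subsingleton_HU_iff]
    refine CohtopA.DimShift.ext_one_eq_zero_of_lift hS _ ((subsingleton_HU_iff _ _ _).1 h2) ?_
    intro f
    obtain ⟨t, ht⟩ := h (CohqA.SheafH.homEquiv X S.X₃ f)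
    refine ⟨(CohqA.SheafH.homEquiv X S.X₂).symm t, (CohqA.SheafH.homEquiv X S.X₃).injective ?_⟩
    rw [CohqA.SheafH.homEquiv_comp, Equiv.apply_symm_apply, ht]

/-- `H^1(X, F) = 0` iff sections of `Q` over `X` lift to `I`, for `0 ⟶ F ⟶ I ⟶ Q ⟶ 0` with `I` injective. -/
theorem subsingleton_HU_one_iff {S : ShortComplex (Sheaf J AddCommGrpCat.{u})} (hS : S.ShortExact)
    [Injective S.X₂] (X : C) :
    Subsingleton (CohSite.HU S.X₁ 1 X) ↔ Function.Surjective (S.g.hom.app (op X)) :=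
  subsingleton_HU_one_iff' hS X (subsingleton_HU_of_injective S.X₂ 0 X)

/-- `H^(q+1)(X, F) = 0` iff `H^q(X, Q) = 0`, for `0 ⟶ F ⟶ I ⟶ Q ⟶ 0` with `H^q(X, I) = 0 = H^(q+1)(X, I)`. -/
theorem subsingleton_HU_succ_iff' {S : ShortComplex (Sheaf J AddCommGrpCat.{u})} (hS : S.ShortExact) (X : C)
    (q : ℕ) (h2 : Subsingleton (CohSite.HU S.X₂ q X)) (h2' : Subsingleton (CohSite.HU S.X₂ (q + 1) X)) :
    Subsingleton (CohSite.HU S.X₁ (q + 1) X) ↔ Subsingleton (CohSite.HU S.X₃ q X) := by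
  rw [subsingleton_HU_iff] at h2 h2' ⊢
  rw [subsingleton_HU_iff]
  exact ⟨fun h => CohtopA.DimShift.ext_eq_zero_of_left hS _ q h h2,
    fun h => CohtopA.DimShift.ext_succ_eq_zero_of_succ hS _ q h2' h⟩

/-- `H^(q+2)(X, F) = 0` iff `H^(q+1)(X, Q) = 0`, for `0 ⟶ F ⟶ I ⟶ Q ⟶ 0` with `I` injective. -/
theorem subsingleton_HU_succ_iff {S : ShortComplex (Sheaf J AddCommGrpCat.{u})} (hS : S.ShortExact)
    [Injective S.X₂] (X : C) (q : ℕ) :
    Subsingleton (CohSite.HU S.X₁ (q + 2) X) ↔ Subsingleton (CohSite.HU S.X₃ (q + 1) X) :=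
  subsingleton_HU_succ_iff' hS X (q + 1) (subsingleton_HU_of_injective S.X₂ q X)
    (subsingleton_HU_of_injective S.X₂ (q + 1) X)

/-- Every abelian sheaf embeds into an injective one with short exact sequence. -/
theorem exists_ses (F : Sheaf J AddCommGrpCat.{u}) :
    ∃ (S : ShortComplex (Sheaf J AddCommGrpCat.{u})), S.X₁ = F ∧ Injective S.X₂ ∧ S.ShortExact := by
  obtain ⟨I, Q, i, q, w, hI, hS⟩ := CohtopA.DimShift.exists_shortExact_injective F
  exact ⟨ShortComplex.mk i q w, rfl, hI, hS⟩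

end Groth.Agent.Topos.H576.ExtShift
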