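import Mathlib.CategoryTheory.Sites.Abelian
import Mathlib.CategoryTheory.Sites.LeftExact
import Mathlib.CategoryTheory.Sites.Localization
import Mathlib.Algebra.Category.Grp.Abelian
import Mathlib.Algebra.Category.Grp.FilteredColimits
import Mathlib.Algebra.Category.Grp.Limits
import Mathlib.CategoryTheory.Abelian.Exact
import Mathlib.Algebra.Homology.ShortComplex.ShortExact

/-!
# Properties of presheaves of abelian groups invariant under maps inverted by sheafification

If a property `D` of presheaves of abelian groups is unchanged by dividing out a subpresheaf with zero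
associated sheaf, and by passing to a subpresheaf whose quotient has zero associated sheaf, then it is
invariant under all morphisms which become isomorphisms after sheafification (`iff_of_isIso`).
In particular `D G ↔ D G^#` (`iff_sheafify`).
-/

set_option autoImplicit false
universe u

open CategoryTheory CategoryTheory.Limits Opposite

namespace Groth.Agent.Topos.H576.SheafifyIff

variable {C : Type u} [SmallCategory C] (J : GrothendieckTopology C)

/-- An epi-mono factorisation of a morphism of presheaves inverted by sheafification gives two short exact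
sequences whose outer terms have zero associated sheaf. -/
theorem exists_ses {P Q : Cᵒᵖ ⥤ AddCommGrpCat.{u}} (f : P ⟶ Q)
    (hf : IsIso ((presheafToSheaf J AddCommGrpCat.{u}).map f)) :
    ∃ (S T : ShortComplex (Cᵒᵖ ⥤ AddCommGrpCat.{u})), S.ShortExact ∧ T.ShortExact ∧
      IsZero ((presheafToSheaf J AddCommGrpCat.{u}).obj S.X₁) ∧
      IsZero ((presheafToSheaf J AddCommGrpCat.{u}).obj T.X₃) ∧
      S.X₂ = P ∧ T.X₂ = Q ∧ S.X₃ = T.X₁ := by
  refine ⟨ShortComplex.mk (kernel.ι (Abelian.factorThruImage f)) (Abelian.factorThruImage f)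
      (kernel.condition _),
    ShortComplex.mk (Abelian.image.ι f) (cokernel.π f) (kernel.condition _), ?_, ?_, ?_, ?_,
    rfl, rfl, rfl⟩
  · exact
      { exact := ShortComplex.exact_kernel _
        mono_f := by dsimp; infer_instance
        epi_g := by dsimp; infer_instance }
  · exact
      { exact := ShortComplex.exact_kernel _
        mono_f := by dsimp; infer_instance
        epi_g := by dsimp; infer_instance }
  · have h1 : kernel.ι (Abelian.factorThruImage f) ≫ f = 0 := by
      have e := kernel.condition_assoc (Abelian.factorThruImage f) (Abelian.image.ι f)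
      rwa [Abelian.image.fac f, zero_comp] at e
    have h2 : (presheafToSheaf J AddCommGrpCat.{u}).map (kernel.ι (Abelian.factorThruImage f)) = 0 := by
      rw [← cancel_mono ((presheafToSheaf J AddCommGrpCat.{u}).map f), ← Functor.map_comp, h1,
        Functor.map_zero, zero_comp]
    have : Mono ((presheafToSheaf J AddCommGrpCat.{u}).map (kernel.ι (Abelian.factorThruImage f))) :=
      (presheafToSheaf J AddCommGrpCat.{u}).map_mono _
    exact IsZero.of_mono_eq_zero _ h2
  · have h1 : f ≫ cokernel.π f = 0 := cokernel.condition f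
    have h2 : (presheafToSheaf J AddCommGrpCat.{u}).map (cokernel.π f) = 0 := by
      rw [← cancel_epi ((presheafToSheaf J AddCommGrpCat.{u}).map f), ← Functor.map_comp, h1,
        Functor.map_zero, comp_zero]
    have : Epi ((presheafToSheaf J AddCommGrpCat.{u}).map (cokernel.π f)) :=
      (presheafToSheaf J AddCommGrpCat.{u}).map_epi _
    exact IsZero.of_epi_eq_zero _ h2

variable (D : (Cᵒᵖ ⥤ AddCommGrpCat.{u}) → Prop)

/-- Invariance under morphisms inverted by sheafification. -/
theorem iff_of_isIso
    (hker : ∀ S : ShortComplex (Cᵒᵖ ⥤ AddCommGrpCat.{u}), S.ShortExact →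
      IsZero ((presheafToSheaf J AddCommGrpCat.{u}).obj S.X₁) → (D S.X₂ ↔ D S.X₃))
    (hcoker : ∀ S : ShortComplex (Cᵒᵖ ⥤ AddCommGrpCat.{u}), S.ShortExact →
      IsZero ((presheafToSheaf J AddCommGrpCat.{u}).obj S.X₃) → (D S.X₁ ↔ D S.X₂))
    {P Q : Cᵒᵖ ⥤ AddCommGrpCat.{u}} (f : P ⟶ Q)
    (hf : IsIso ((presheafToSheaf J AddCommGrpCat.{u}).map f)) : D P ↔ D Q := by
  obtain ⟨S, T, hS, hT, hS1, hT3, rfl, rfl, h⟩ := exists_ses J f hf
  rw [hker S hS hS1, h, hcoker T hT hT3]

/-- Invariance under sheafification. -/
theorem iff_sheafify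
    (hker : ∀ S : ShortComplex (Cᵒᵖ ⥤ AddCommGrpCat.{u}), S.ShortExact →
      IsZero ((presheafToSheaf J AddCommGrpCat.{u}).obj S.X₁) → (D S.X₂ ↔ D S.X₃))
    (hcoker : ∀ S : ShortComplex (Cᵒᵖ ⥤ AddCommGrpCat.{u}), S.ShortExact →
      IsZero ((presheafToSheaf J AddCommGrpCat.{u}).obj S.X₃) → (D S.X₁ ↔ D S.X₂))
    (G : Cᵒᵖ ⥤ AddCommGrpCat.{u}) :
    D G ↔ D ((presheafToSheaf J AddCommGrpCat.{u}).obj G).obj :=
  iff_of_isIso J D hker hcoker (toSheafify J G) ((J.W_iff _).1 (J.W_toSheafify G))

end Groth.Agent.Topos.H576.SheafifyIff
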